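import Mathlib

/-!
# Formal smoothness of `Λ / ϖ^n` over `W / ϖ^n`

Helper library of helper7.  For a flat `W`-algebra `Λ` and `ϖ : W`, if `Λ / ϖ Λ` is formally
smooth over `W / ϖ` then `Λ / ϖ^n Λ` is formally smooth over `W / ϖ^n` for all `n ≥ 1`
(all stated with ring homomorphisms).
-/

set_option autoImplicit false

namespace Groth.Agent.Helper7.SqZero

open TensorProduct

variable (W : Type*) [CommRing W] (Λ : Type*) [CommRing Λ] [Algebra W Λ]

/-- the map `W / I → Λ / I Λ` -/
noncomputable abbrev quotMapRingHom (I : Ideal W) :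
    W ⧸ I →+* Λ ⧸ I.map (algebraMap W Λ) :=
  Ideal.quotientMap (I.map (algebraMap W Λ)) (algebraMap W Λ) Ideal.le_comap_map

theorem flat_quotMapRingHom [Module.Flat W Λ] (I : Ideal W) : (quotMapRingHom W Λ I).Flat := by
  have h : Module.Flat (W ⧸ I) (Λ ⧸ I.map (algebraMap W Λ)) :=
    Module.Flat.of_linearEquiv
      (Algebra.TensorProduct.quotIdealMapEquivQuotTensor Λ I).toLinearEquiv
  have h2 : (algebraMap (W ⧸ I) (Λ ⧸ I.map (algebraMap W Λ))).Flat :=
    RingHom.flat_algebraMap_iff.mpr h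
  exact h2

variable {W Λ}

theorem formallySmooth_quotMapRingHom_step [Module.Flat W Λ] (I J : Ideal W) (hJI : J ≤ I)
    (hsq : I ^ 2 ≤ J) (h : (quotMapRingHom W Λ I).FormallySmooth) :
    (quotMapRingHom W Λ J).FormallySmooth := by
  have hJI' : J.map (algebraMap W Λ) ≤ I.map (algebraMap W Λ) := Ideal.map_mono hJI
  refine RingHom.FormallySmooth.of_flat_of_ker_eq_map_of_square_zero (quotMapRingHom W Λ J)
    (flat_quotMapRingHom W Λ J) (Ideal.Quotient.factor hJI) (Ideal.Quotient.factor hJI')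
    (quotMapRingHom W Λ I) (Ideal.Quotient.factor_surjective hJI)
    (Ideal.Quotient.factor_surjective hJI') ?_ ?_ ?_ h
  · refine Ideal.Quotient.ringHom_ext ?_
    ext x
    rfl
  · rw [Ideal.Quotient.factor_ker, ← Ideal.map_pow, eq_bot_iff]
    refine (Ideal.map_mono hsq).trans ?_
    rw [Ideal.map_quotient_self]
  · rw [Ideal.Quotient.factor_ker, Ideal.Quotient.factor_ker, Ideal.map_map, Ideal.map_map]
    congr 1

theorem formallySmooth_quotMapRingHom_pow [Module.Flat W Λ] (ϖ : W)
    (h : (quotMapRingHom W Λ (Ideal.span {ϖ})).FormallySmooth) (n : ℕ) (hn : 1 ≤ n) :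
    (quotMapRingHom W Λ (Ideal.span {ϖ ^ n})).FormallySmooth := by
  induction n, hn using Nat.le_induction with
  | base => rwa [pow_one]
  | succ n hn ih =>
    refine formallySmooth_quotMapRingHom_step (Ideal.span {ϖ ^ n}) (Ideal.span {ϖ ^ (n + 1)})
      ?_ ?_ ih
    · rw [Ideal.span_singleton_le_span_singleton]
      exact pow_dvd_pow ϖ n.le_succ
    · rw [Ideal.span_singleton_pow, Ideal.span_singleton_le_span_singleton, ← pow_mul]
      exact pow_dvd_pow ϖ (by omega)

end Groth.Agent.Helper7.SqZero
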