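import Mathlib
import Groth.Agent.Lib.Helper1.LocalCrit

/-!
# Square-zero thickenings: flatness and finite presentation lift

Helper library of helper7.  Let `R → A` be surjective with square-zero kernel `I`.
* `flat_of_sqZero`: an `R`-module `M` with `A ⊗ M` flat over `A` and `I ⊗ M → M` injective is flat.
* `finitePresentation_of_sqZero`: a flat `R`-algebra `S` such that `S / I S` is of finite
  presentation over `A` is of finite presentation over `R`.
-/

set_option autoImplicit false

namespace Groth.Agent.Helper7.SqZero

open TensorProduct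

universe u

section Nak

variable {R : Type*} [CommRing R] (I : Ideal R) {M : Type*} [AddCommGroup M] [Module R M]

/-- Nakayama for a square-zero ideal. -/
theorem le_of_le_sup_smul (hI : I ^ 2 = ⊥) (N K : Submodule R M) (h : K ≤ N ⊔ I • K) :
    K ≤ N := by
  have h1 : I • K ≤ I • N ⊔ I • (I • K) := by
    calc I • K ≤ I • (N ⊔ I • K) := Submodule.smul_mono le_rfl h
      _ = I • N ⊔ I • (I • K) := Submodule.smul_sup I N (I • K)
  have h2 : I • (I • K) = ⊥ := by
    rw [← Submodule.mul_smul, ← pow_two, hI, Submodule.bot_smul]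
  rw [h2, sup_bot_eq] at h1
  calc K ≤ N ⊔ I • K := h
    _ ≤ N ⊔ I • N := sup_le_sup_left h1 N
    _ ≤ N := sup_le le_rfl Submodule.smul_le_right

end Nak

section Flat

variable (R : Type u) [CommRing R] (A : Type u) [CommRing A] [Algebra R A]
  (M : Type u) [AddCommGroup M] [Module R M]

/-- Infinitesimal flatness criterion for a square-zero ideal. -/
theorem flat_of_sqZero (hA : Function.Surjective (algebraMap R A))
    (hI : RingHom.ker (algebraMap R A) ^ 2 = ⊥)
    [Module.Flat A (A ⊗[R] M)]
    (h1 : Function.Injective ((RingHom.ker (algebraMap R A)).subtype.rTensor M)) :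
    Module.Flat R M := by
  rw [Module.Flat.iff_rTensor_injective']
  intro K
  refine Groth.Agent.Helper1.LocalCrit.rTensor_subtype_injective_of_pow_smul_le M
    (RingHom.ker (algebraMap R A)) A hA rfl h1 2 K ?_
  rw [hI, Submodule.bot_smul]
  exact bot_le

end Flat

section FlatKer

variable {R : Type*} [CommRing R] (I : Ideal R) {P S : Type*} [AddCommGroup P] [Module R P]
  [AddCommGroup S] [Module R S]

theorem lid_rTensor_lTensor (g : P →ₗ[R] S) (t : I ⊗[R] P) :
    TensorProduct.lid R S (I.subtype.rTensor S (g.lTensor I t)) =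
      g (TensorProduct.lid R P (I.subtype.rTensor P t)) := by
  induction t using TensorProduct.induction_on with
  | zero => simp
  | tmul i p => simp
  | add a b ha hb => simp only [map_add, ha, hb]

/-- For a surjection `g : P → S` onto a flat module, `I P ∩ ker g = I ker g`. -/
theorem mem_smul_ker_of_flat [Module.Flat R S] (g : P →ₗ[R] S) (hg : Function.Surjective g)
    (x : P) (hx : x ∈ I • (⊤ : Submodule R P)) (hgx : g x = 0) :
    x ∈ I • LinearMap.ker g := by
  rw [← Submodule.map_range_rTensor_subtype_lid] at hx
  obtain ⟨_, ⟨t, rfl⟩, rfl⟩ := hx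
  have h0 : g.lTensor I t = 0 := by
    have hinj : Function.Injective (I.subtype.rTensor S) :=
      (Module.Flat.iff_rTensor_injective'.mp inferInstance) I
    apply hinj
    apply (TensorProduct.lid R S).injective
    rw [lid_rTensor_lTensor, map_zero, map_zero]
    exact hgx
  have hex : Function.Exact ((LinearMap.ker g).subtype.lTensor I) (g.lTensor I) :=
    lTensor_exact I (LinearMap.exact_subtype_ker_map g) hg
  obtain ⟨s, rfl⟩ := (hex t).mp h0
  show (TensorProduct.lid R P) (I.subtype.rTensor P ((LinearMap.ker g).subtype.lTensor I s)) ∈ _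
  rw [lid_rTensor_lTensor]
  have h1 : TensorProduct.lid R (LinearMap.ker g) (I.subtype.rTensor (LinearMap.ker g) s) ∈
      I • (⊤ : Submodule R (LinearMap.ker g)) := by
    rw [← Submodule.map_range_rTensor_subtype_lid]
    exact ⟨_, ⟨s, rfl⟩, rfl⟩
  have h2 := Submodule.mem_map_of_mem (f := (LinearMap.ker g).subtype) h1
  rw [Submodule.map_smul'', Submodule.map_top, Submodule.range_subtype] at h2
  exact h2

end FlatKer

section FP

variable (R : Type u) [CommRing R] (A : Type u) [CommRing A] [Algebra R A]
  (S : Type u) [CommRing S] [Algebra R S] (T : Type u) [CommRing T] [Algebra S T] [Algebra A T]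
  [Algebra R T] [IsScalarTower R A T] [IsScalarTower R S T]

/-- Finite presentation lifts along a square-zero thickening, for flat algebras. -/
theorem finitePresentation_of_sqZero (hA : Function.Surjective (algebraMap R A))
    (hI : RingHom.ker (algebraMap R A) ^ 2 = ⊥)
    (hT : Function.Surjective (algebraMap S T))
    (hJI : RingHom.ker (algebraMap S T) = (RingHom.ker (algebraMap R A)).map (algebraMap R S))
    [Module.Flat R S] [Algebra.FinitePresentation A T] : Algebra.FinitePresentation R S := by
  classical
  obtain ⟨n, f, hf, hfg⟩ := Algebra.FinitePresentation.out (R := A) (A := T)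
  choose s hs using fun i : Fin n => hT (f (MvPolynomial.X i))
  let f' : MvPolynomial (Fin n) R →ₐ[R] S := MvPolynomial.aeval s
  let π : MvPolynomial (Fin n) R →+* MvPolynomial (Fin n) A := MvPolynomial.map (algebraMap R A)
  have hπ : Function.Surjective π := MvPolynomial.map_surjective _ hA
  have hcomm : ∀ p, algebraMap S T (f' p) = f (π p) := by
    intro p
    induction p using MvPolynomial.induction_on with
    | C a =>
      have e1 : f' (MvPolynomial.C a) = algebraMap R S a := MvPolynomial.aeval_C s a
      have e2 : π (MvPolynomial.C a) = MvPolynomial.C (algebraMap R A a) :=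
        MvPolynomial.map_C _ a
      have e3 : f (MvPolynomial.C (algebraMap R A a)) = algebraMap A T (algebraMap R A a) :=
        f.commutes _
      rw [e1, e2, e3, ← IsScalarTower.algebraMap_apply, ← IsScalarTower.algebraMap_apply]
    | add p q hp hq => simp only [map_add, hp, hq]
    | mul_X p i hp =>
      simp only [map_mul, hp]
      congr 1
      simp only [f', π, MvPolynomial.aeval_X, MvPolynomial.map_X, hs]
  have hkerπ : RingHom.ker π = (RingHom.ker (algebraMap R A)).map MvPolynomial.C :=
    MvPolynomial.ker_map _
  -- surjectivity of f'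
  have hsurj : Function.Surjective f' := by
    have h1 : (⊤ : Submodule R S) ≤ LinearMap.range f'.toLinearMap ⊔
        RingHom.ker (algebraMap R A) • (⊤ : Submodule R S) := by
      intro b _
      obtain ⟨q, hq⟩ := hf (algebraMap S T b)
      obtain ⟨p, rfl⟩ := hπ q
      have hb : b - f' p ∈ RingHom.ker (algebraMap R A) • (⊤ : Submodule R S) := by
        rw [Ideal.smul_top_eq_map, Submodule.restrictScalars_mem, ← hJI, RingHom.mem_ker,
          map_sub, hcomm, hq, sub_self]
      have : b = f' p + (b - f' p) := by ring
      rw [this]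
      exact Submodule.add_mem_sup ⟨p, rfl⟩ hb
    have h2 := le_of_le_sup_smul _ hI _ _ h1
    intro b
    obtain ⟨p, hp⟩ := h2 (Submodule.mem_top (x := b))
    exact ⟨p, hp⟩
  -- the kernel
  set I' : Ideal (MvPolynomial (Fin n) R) :=
    (RingHom.ker (algebraMap R A)).map MvPolynomial.C with hI'def
  have hI' : I' ^ 2 = ⊥ := by
    rw [hI'def, ← Ideal.map_pow, hI, Ideal.map_bot]
  have hlift : ∀ k : MvPolynomial (Fin n) A, ∃ k' : MvPolynomial (Fin n) R,
      k ∈ RingHom.ker f.toRingHom → (k' ∈ RingHom.ker f'.toRingHom ∧ π k' = k) := by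
    intro k
    by_cases hk : k ∈ RingHom.ker f.toRingHom
    · obtain ⟨y, hy⟩ := hπ k
      have h1 : f' y ∈ RingHom.ker (algebraMap S T) := by
        rw [RingHom.mem_ker, hcomm, hy]
        exact hk
      rw [hJI] at h1
      have h2 : (RingHom.ker (algebraMap R A)).map (algebraMap R S) = I'.map f'.toRingHom := by
        rw [hI'def, Ideal.map_map]
        congr 1
        ext a
        exact (MvPolynomial.aeval_C s a).symm
      rw [h2] at h1
      obtain ⟨z, hz, hzy⟩ := (Ideal.mem_map_iff_of_surjective f'.toRingHom hsurj).mp h1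
      refine ⟨y - z, fun _ => ⟨?_, ?_⟩⟩
      · rw [RingHom.mem_ker, map_sub, hzy]
        exact sub_self _
      · rw [map_sub, hy]
        have : π z = 0 := by
          rw [← RingHom.mem_ker, hkerπ]
          exact hz
        rw [this, sub_zero]
    · exact ⟨0, fun h => absurd h hk⟩
  choose g hg using hlift
  obtain ⟨t, ht⟩ := hfg
  set N : Ideal (MvPolynomial (Fin n) R) := Ideal.span (g '' (t : Set _)) with hN
  have hNle : N ≤ RingHom.ker f'.toRingHom := by
    rw [hN, Ideal.span_le]
    rintro _ ⟨k, hk, rfl⟩
    refine (hg k ?_).1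
    rw [← ht]
    exact Ideal.subset_span hk
  have hNmap : N.map π = RingHom.ker f.toRingHom := by
    rw [hN, Ideal.map_span, ← ht]
    congr 1
    ext k
    constructor
    · rintro ⟨_, ⟨k, hk, rfl⟩, rfl⟩
      rw [(hg k (by rw [← ht]; exact Ideal.subset_span hk)).2]
      exact hk
    · intro hk
      exact ⟨g k, ⟨k, hk, rfl⟩, (hg k (by rw [← ht]; exact Ideal.subset_span hk)).2⟩
  have hle : RingHom.ker f'.toRingHom ≤ N ⊔ I' • RingHom.ker f'.toRingHom := by
    intro x hx
    have h1 : π x ∈ N.map π := by
      rw [hNmap, RingHom.mem_ker]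
      have := hcomm x
      rw [RingHom.mem_ker] at hx
      change f' x = 0 at hx
      rw [hx, map_zero] at this
      exact this.symm
    obtain ⟨m, hm, hmx⟩ := (Ideal.mem_map_iff_of_surjective π hπ).mp h1
    have h2 : x - m ∈ I' := by
      rw [← hkerπ, RingHom.mem_ker, map_sub, hmx, sub_self]
    have h3 : f'.toLinearMap (x - m) = 0 := by
      have e1 : f' x = 0 := hx
      have e2 : f' m = 0 := hNle hm
      show f' (x - m) = 0
      rw [map_sub, e1, e2, sub_zero]
    have h4 : x - m ∈ RingHom.ker (algebraMap R A) •
        (⊤ : Submodule R (MvPolynomial (Fin n) R)) := by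
      rw [Ideal.smul_top_eq_map, Submodule.restrictScalars_mem, MvPolynomial.algebraMap_eq]
      exact h2
    have h5 := mem_smul_ker_of_flat (RingHom.ker (algebraMap R A)) f'.toLinearMap hsurj
      (x - m) h4 h3
    have h6 : x - m ∈ I' • RingHom.ker f'.toRingHom := by
      refine Submodule.smul_induction_on h5 ?_ ?_
      · intro r hr k hk
        rw [Algebra.smul_def, MvPolynomial.algebraMap_eq, smul_eq_mul]
        exact Ideal.mul_mem_mul (Ideal.mem_map_of_mem _ hr) hk
      · intro a b ha hb
        exact Submodule.add_mem _ ha hb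
    have : x = m + (x - m) := by ring
    rw [this]
    exact Submodule.add_mem_sup hm h6
  have hKN : RingHom.ker f'.toRingHom = N :=
    le_antisymm (le_of_le_sup_smul I' hI' N _ hle) hNle
  refine ⟨n, f', hsurj, ?_⟩
  rw [hKN]
  exact ⟨t.image g, by rw [hN, Finset.coe_image]⟩

end FP

end Groth.Agent.Helper7.SqZero
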